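import Cfsg.Agent.H775.EPS.SimpleCount
import Cfsg.Agent.H424.Spr.AltC
import Cfsg.Agent.H257.El.Eng
import Cfsg.Agent.S0822

/-!
# S3499: the simple groups of order `< 250000` dividing `|Suz|` are generated by an involution and one more element
(helper775)
-/

set_option autoImplicit false

namespace Cfsg.Agent.H775.EPS

open Subgroup Cfsg Cfsg.Agent.OrdDiv
open Cfsg.Agent.H424.Spr (Spr)

universe u

/-- `Spr` gives the generation -/
theorem gen_of_spr {X : Type u} [Group X] [Finite X] (h : Spr X) (hs : IsSimpleGroup X) (hns : ¬ Group.IsSolvable X)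
    (hev : 2 ∣ Nat.card X) : ∃ z y : X, orderOf z = 2 ∧ closure ({z, y} : Set X) = ⊤ := by
  have : Fact (Nat.Prime 2) := ⟨Nat.prime_two⟩
  obtain ⟨z, hz⟩ := exists_prime_orderOf_dvd_card' 2 hev
  have hc : MulAut.conj z ≠ 1 := by
    intro h1
    have h2 : z ∈ center X := by
      rw [mem_center_iff]
      intro g
      have h3 := DFunLike.congr_fun h1 g
      rw [MulAut.conj_apply, MulAut.one_apply, mul_inv_eq_iff_eq_mul] at h3
      exact h3.symm
    rcases hs.eq_bot_or_eq_top_of_normal (center X) inferInstance with h3 | h3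
    · rw [h3, mem_bot] at h2
      rw [h2, orderOf_one] at hz
      norm_num at hz
    · apply hns
      apply Group.isSolvable_of_comm
      intro x y
      have : y ∈ center X := by rw [h3]; exact mem_top _
      exact mem_center_iff.1 this x
  obtain ⟨x, hx⟩ := h _ hc
  refine ⟨z, x, hz, hx _ (subset_closure (by simp)) ?_⟩
  intro k hk
  have hzm : z ∈ closure ({z, x} : Set X) := subset_closure (by simp)
  exact mul_mem (mul_mem hzm hk) (inv_mem hzm)

/-- the factorisation -/
def lS : List (ℕ × ℕ) := [(2, 13), (3, 7), (5, 2), (7, 1), (11, 1), (13, 1)]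

theorem cands_eq : (cands lS 448345497600).filter (fun g => decide (ordN g < 250000)) =
    [.alt 5, .alt 6, .alt 7, .alt 8, .alt 9, .psl 3 2, .psl 4 2, .psl 2 4, .psl 3 4, .psl 2 8, .psl 3 3, .psl 2 9,
      .psl 2 27, .psl 2 5, .psl 2 25, .psl 2 7, .psl 2 11, .psl 2 13, .psp 2 3, .psu 4 2, .psu 3 4, .psu 3 3, .sz 8,
      .m11, .m12] := by decide +kernel

/-- **the small simple groups** -/
theorem spr_small (tab : OrderTable.{0}) (known : H257.El.Known.{0})
    (psl : ∀ {n : ℕ} {F : Type} [Field F] [Fintype F], 2 ≤ n → (n = 2 → 4 ≤ Fintype.card F) →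
      Spr (Matrix.ProjectiveSpecialLinearGroup (Fin n) F))
    (psu3 : ∀ {q : ℕ} {F : Type} [Field F] [Fintype F], Fintype.card F = q ^ 2 → 3 ≤ q → Spr (PSU 3 F q))
    (psu4 : ∀ {q : ℕ} {F : Type} [Field F] [Fintype F], Fintype.card F = q ^ 2 → Spr (PSU 4 F q))
    (sz : ∀ {T : Type} [Group T] [Finite T], IsSimpleGroup T → (∃ x y : T, x * y ≠ y * x) → Lie.IsoSuzuki T → Spr T)
    (m11 : ∀ {T : Type} [Group T] [Finite T], Spor.IsoM11 T → Spr T)
    (m12 : ∀ {T : Type} [Group T] [Finite T], Spor.IsoM12 T → Spr T)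
    {X : Type} [Group X] [Finite X] (hs : IsSimpleGroup X) (hns : ¬ Group.IsSolvable X)
    (hd : Nat.card X ∣ 448345497600) (hlt : Nat.card X < 250000) : Spr X := by
  have hna : ¬ ∀ a b : X, a * b = b * a := fun h => hns (Group.isSolvable_of_comm h)
  have hna' : ∃ x y : X, x * y ≠ y * x := by
    push Not at hna
    exact hna
  obtain ⟨g, hg, hr, hc⟩ := exists_good tab (known X) hna (l := lS) (N := 448345497600) (by decide +kernel) hd
  have hL : g ∈ (cands lS 448345497600).filter (fun g => decide (ordN g < 250000)) := by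
    rw [List.mem_filter]
    refine ⟨hg, ?_⟩
    rw [decide_eq_true_eq, ← hc]
    exact hlt
  rw [cands_eq] at hL
  have alt : ∀ n : ℕ, 5 ≤ n → Nonempty (X ≃* ↥(alternatingGroup (Fin n))) → Spr X := fun n hn h =>
    Cfsg.Agent.H424.SprAlt.row_alternating hna' ⟨n, hn, h⟩
  have hpsl : ∀ n q : ℕ, 2 ≤ n → (n = 2 → 4 ≤ q) → (∃ (F : Type) (_ : Field F) (_ : Fintype F), Fintype.card F = q ∧
      Nonempty (X ≃* Matrix.ProjectiveSpecialLinearGroup (Fin n) F)) → Spr X := by
    rintro n q hn h2 ⟨F, i1, i2, rfl, ⟨e⟩⟩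
    exact Spr.congr e.symm (psl hn h2)
  have hpsu3 : ∀ q : ℕ, 3 ≤ q → (∃ (F : Type) (_ : Field F) (_ : Fintype F), Fintype.card F = q ^ 2 ∧
      Nonempty (X ≃* PSU 3 F q)) → Spr X := by
    rintro q hq ⟨F, i1, i2, hF, ⟨e⟩⟩
    exact Spr.congr e.symm (psu3 hF hq)
  simp only [List.mem_cons, List.not_mem_nil, or_false] at hL
  rcases hL with rfl | rfl | rfl | rfl | rfl | rfl | rfl | rfl | rfl | rfl | rfl | rfl | rfl | rfl | rfl | rfl | rfl |
    rfl | rfl | rfl | rfl | rfl | rfl | rfl | rfl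
  · exact alt 5 (by norm_num) hr
  · exact alt 6 (by norm_num) hr
  · exact alt 7 (by norm_num) hr
  · exact alt 8 (by norm_num) hr
  · exact alt 9 (by norm_num) hr
  · exact hpsl 3 2 (by norm_num) (by norm_num) hr
  · exact hpsl 4 2 (by norm_num) (by norm_num) hr
  · exact hpsl 2 4 (by norm_num) (by norm_num) hr
  · exact hpsl 3 4 (by norm_num) (by norm_num) hr
  · exact hpsl 2 8 (by norm_num) (by norm_num) hr
  · exact hpsl 3 3 (by norm_num) (by norm_num) hr
  · exact hpsl 2 9 (by norm_num) (by norm_num) hr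
  · exact hpsl 2 27 (by norm_num) (by norm_num) hr
  · exact hpsl 2 5 (by norm_num) (by norm_num) hr
  · exact hpsl 2 25 (by norm_num) (by norm_num) hr
  · exact hpsl 2 7 (by norm_num) (by norm_num) hr
  · exact hpsl 2 11 (by norm_num) (by norm_num) hr
  · exact hpsl 2 13 (by norm_num) (by norm_num) hr
  · -- `PSp_4(3) = PSU_4(2)`
    obtain ⟨F, i1, i2, hF, ⟨e⟩⟩ := hr
    have : Fact (Nat.Prime 2) := ⟨Nat.prime_two⟩
    have : Fintype (GaloisField 2 2) := Fintype.ofFinite _
    have h4 : Fintype.card (GaloisField 2 2) = 4 := by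
      rw [← Nat.card_eq_fintype_card, GaloisField.card 2 2 (by norm_num)]
      norm_num
    obtain ⟨f⟩ := Cfsg.Agent.S0822.result (F := GaloisField 2 2) (K := F) h4 hF
    exact Spr.congr (f.trans e.symm) (psu4 (F := GaloisField 2 2) (q := 2) (by rw [h4]; norm_num))
  · obtain ⟨F, i1, i2, hF, ⟨e⟩⟩ := hr
    exact Spr.congr e.symm (psu4 hF)
  · exact hpsu3 4 (by norm_num) hr
  · exact hpsu3 3 (by norm_num) hr
  · obtain ⟨F, i1, i2, m, hm, hF, hq, e⟩ := hr
    exact sz hs hna' ⟨F, i1, i2, m, hm, by rw [hF, hq], e⟩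
  · exact m11 hr
  · exact m12 hr

/-- **`InvGen`** -/
theorem invGen_of (spr : ∀ {X : Type} [Group X] [Finite X], IsSimpleGroup X → ¬ Group.IsSolvable X →
      Nat.card X ∣ 448345497600 → Nat.card X < 250000 → Spr X)
    (hev : ∀ (X : Type) [Group X] [Finite X], IsSimpleGroup X → ¬ Group.IsSolvable X → 2 ∣ Nat.card X) :
    InvGen.{0} 448345497600 250000 := fun X _ _ h1 h2 h3 h4 => gen_of_spr (spr h1 h2 h3 h4) h1 h2 (hev X h1 h2)

end Cfsg.Agent.H775.EPS
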