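import Cfsg.Agent.H775.EPS.SuzMain
import Cfsg.Agent.H775.EPS.SuzGen
import Cfsg.Agent.H59.Spr.LThreeFour
import Cfsg.Agent.H833.Spr4.PSU4
import Cfsg.Agent.H947.Spr.PsuSmall
import Cfsg.Agent.H947.Spr.Sz
import Cfsg.Agent.H609.TH.Easy
import Cfsg.Agent.H602.SprM12
import Cfsg.Agent.OrdDiv.Table
import Cfsg.Agent.S3948
import Cfsg.Agent.S0205
import Cfsg.Agent.S0000

/-!
# S3499: `A` with socle `Suz` has index at most `2 ^ 82`, without hypotheses (helper775)
-/

set_option autoImplicit false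

namespace Cfsg.Agent.H775.EPS

open Subgroup Cfsg.Agent.H284 Cfsg.Agent.H419.EP
open Cfsg.Spor (IsoSuz)

theorem known_all : Cfsg.Agent.H257.El.Known.{0} := fun X _ _ _ => Cfsg.Agent.S0000.result (G := X)

theorem even_of_simple (X : Type) [Group X] [Finite X] (_ : IsSimpleGroup X) (hns : ¬ Group.IsSolvable X) :
    2 ∣ Nat.card X := by
  by_contra h
  exact hns (Cfsg.Agent.S0205.result (Nat.not_even_iff_odd.1 fun he => h he.two_dvd))

theorem twoGen_all : Cfsg.Agent.H59.EP.TwoGen.{0} := fun _ _ _ _ => Cfsg.Agent.S3948.result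

theorem invGen_all : InvGen.{0} 448345497600 250000 :=
  invGen_of (fun h1 h2 h3 h4 => spr_small Cfsg.Agent.OrdDiv.table known_all
    (fun hn h2 => Cfsg.Agent.H59.SprPsl.spr_psl hn h2)
    (fun hF hq => Cfsg.Agent.H947.Spr.spr_psu3 hF hq)
    (fun hF => Cfsg.Agent.H833.Spr4.spr_psu4 hF)
    (fun hs hna h => by
      have := hs
      exact Cfsg.Agent.H947.Spr.row_Suzuki hna h)
    (fun h => Cfsg.Agent.H609.TH.spr_m11 known_all h)
    (fun h => Cfsg.Agent.H602.SprM12.spr_m12 known_all h) h1 h2 h3 h4) even_of_simple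

/-- **S3499, layer IV, the sporadic group `Suz`** -/
theorem index_le_suz {Q : Type} [Group Q] [Finite Q] (hs : IsSimpleGroup Q) {A : Subgroup Q} {Γ : Subgroup (MulAut Q)}
    (h : EPT A Γ) {L : Type*} [Group L] (hL : IsoSuz L) (hsoc : HasSoc A L) : A.index ≤ 2 ^ 82 :=
  index_le_core hs h hL hsoc invGen_all twoGen_all even_of_simple

/-- the form for the rows -/
theorem index_le_suz' {Q : Type} [Group Q] [Finite Q] (hs : IsSimpleGroup Q) {A : Subgroup Q} {Γ : Subgroup (MulAut Q)}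
    (h : EPT A Γ) (hL : ∃ (L : Type) (_ : Group L), IsoSuz L ∧ HasSoc A L) : A.index ≤ 2 ^ 82 := by
  obtain ⟨L, _, hL, hsoc⟩ := hL
  exact index_le_suz hs h hL hsoc

end Cfsg.Agent.H775.EPS
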