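import Cfsg.Agent.H775.EPS.Five
import Cfsg.Agent.H59.EP.Count
import Cfsg.Agent.H348.Der.SuzFacts

/-!
# S3499: the Suzuki group has no commuting perfect subgroups `E`, `τ(E)` (helper775)
-/

set_option autoImplicit false

namespace Cfsg.Agent.H775.EPS

open Subgroup Cfsg.Agent.J2Type.SylowFive Cfsg.Agent.H812 Cfsg.Agent.H812.FiveBasis
open scoped commutatorElement

theorem G3_iff {G : Type*} [Group G] [Finite G] (h : Cfsg.Spor.IsoSuz G) {x y : G} (hx : G3 x)
    (hsq : IsConj x (x ^ 2)) (hy : G3 y)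
    (h2 : ∃ A B : Subgroup G, Nat.card A = 5 ∧ Nat.card B = 5 ∧ (∀ g : G, A.map (MulAut.conj g).toMonoidHom ≠ B) ∧
      ∀ C : Subgroup G, Nat.card C = 5 → ∃ g : G, C.map (MulAut.conj g).toMonoidHom = A ∨
        C.map (MulAut.conj g).toMonoidHom = B) : IsConj x y := by
  classical
  obtain ⟨A, B, -, -, -, hAB⟩ := h2
  have hz : ∀ g y : G, (zpowers y).map (MulAut.conj g).toMonoidHom = zpowers (g * y * g⁻¹) := by
    intro g y
    rw [MonoidHom.map_zpowers]; rfl
  -- subgroups conjugate to the same group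
  have htr : ∀ (u w g k : G) (D : Subgroup G), (zpowers u).map (MulAut.conj g).toMonoidHom = D →
      (zpowers w).map (MulAut.conj k).toMonoidHom = D → zpowers (k⁻¹ * g * u * (k⁻¹ * g)⁻¹) = zpowers w := by
    intro u w g k D h1 h2
    rw [hz] at h1 h2
    have h3 : zpowers (g * u * g⁻¹) = zpowers (k * w * k⁻¹) := h1.trans h2.symm
    have h4 := congrArg (fun K : Subgroup G => K.map (MulAut.conj k⁻¹).toMonoidHom) h3
    simp only [hz] at h4
    have e1 : k⁻¹ * (g * u * g⁻¹) * k⁻¹⁻¹ = k⁻¹ * g * u * (k⁻¹ * g)⁻¹ := by group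
    have e2 : k⁻¹ * (k * w * k⁻¹) * k⁻¹⁻¹ = w := by group
    rw [e1, e2] at h4
    exact h4
  have hcen : ∀ u w g : G, zpowers (g * u * g⁻¹) = zpowers w →
      Nat.card (centralizer ({u} : Set G)) = Nat.card (centralizer ({w} : Set G)) := by
    intro u w g e
    have h1 : centralizer ({g * u * g⁻¹} : Set G) = centralizer ({w} : Set G) := by
      rw [← centralizer_closure {g * u * g⁻¹}, ← zpowers_eq_closure, e, zpowers_eq_closure, centralizer_closure]
    rw [← h1]
    exact card_cent_equiv (MulAut.conj g) u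
  have hc5 : ∀ u : G, orderOf u = 5 → Nat.card (zpowers u) = 5 := fun u hu => by rw [Nat.card_zpowers, hu]
  -- `x` and `y` generate conjugate subgroups
  have hxy : ∃ g : G, zpowers (g * x * g⁻¹) = zpowers y := by
    by_contra hcon
    push Not at hcon
    have hall : ∀ w : G, orderOf w = 5 → Nat.card (centralizer ({w} : Set G)) = 300 := by
      intro w hw
      obtain ⟨gx, hgx⟩ := hAB _ (hc5 x hx.1)
      obtain ⟨gy, hgy⟩ := hAB _ (hc5 y hy.1)
      obtain ⟨gw, hgw⟩ := hAB _ (hc5 w hw)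
      rcases hgx with hgx | hgx <;> rcases hgy with hgy | hgy
      · exact absurd (htr _ _ _ _ _ hgx hgy) (hcon _)
      · rcases hgw with hgw | hgw
        · rw [hcen _ _ _ (htr _ _ _ _ _ hgw hgx), hx.2]
        · rw [hcen _ _ _ (htr _ _ _ _ _ hgw hgy), hy.2]
      · rcases hgw with hgw | hgw
        · rw [hcen _ _ _ (htr _ _ _ _ _ hgw hgy), hy.2]
        · rw [hcen _ _ _ (htr _ _ _ _ _ hgw hgx), hx.2]
      · exact absurd (htr _ _ _ _ _ hgx hgy) (hcon _)
    obtain ⟨a, b, ha, hb, hab⟩ := Cfsg.Agent.H348.Der.SuzFacts.exists_five h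
    exact hab ((hall a ha).trans (hall b hb).symm)
  obtain ⟨g, hg⟩ := hxy
  -- `y` is a power of a conjugate of `x`
  have h1 : y ∈ zpowers (g * x * g⁻¹) := by rw [hg]; exact mem_zpowers y
  obtain ⟨k, hk⟩ := mem_powers_iff_mem_zpowers.2 h1
  change (g * x * g⁻¹) ^ k = y at hk
  have hx5 : x ^ 5 = 1 := by rw [← hx.1, pow_orderOf_eq_one]
  have hk' : y = g * x ^ (k % 5) * g⁻¹ := by
    rw [← hk, conj_pow, ← pow_mod_orderOf x k, hx.1]
  have h4 : IsConj x (x ^ 4) := by
    have := hsq.pow 2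
    rw [← pow_mul] at this
    exact hsq.trans this
  have h3 : IsConj x (x ^ 3) := by
    have h5 := hsq.pow 4
    rw [← pow_mul, show 2 * 4 = 5 + 3 by norm_num, pow_add, hx5, one_mul] at h5
    exact h4.trans h5
  have hlt : k % 5 < 5 := Nat.mod_lt _ (by norm_num)
  have h0 : ∀ j < 5, j ≠ 0 → IsConj x (x ^ j) := by
    intro j hj hj0
    interval_cases j
    · exact absurd rfl hj0
    · rw [pow_one]
    · exact hsq
    · exact h3
    · exact h4
  have hne : k % 5 ≠ 0 := by
    intro e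
    rw [e, pow_zero, mul_one, mul_inv_cancel] at hk'
    have := hy.1
    rw [hk', orderOf_one] at this
    norm_num at this
  rw [hk']
  exact (h0 _ hlt hne).trans (isConj_iff.2 ⟨g, rfl⟩)

/-- every Sylow 5-subgroup has 12 elements with centraliser of order 300 -/
theorem five_count {G : Type*} [Group G] [Finite G] (h : Cfsg.Spor.IsoSuz G) (P : Sylow 5 G) :
    Nat.card (P : Subgroup G) = 25 ∧ {y | y ∈ (P : Subgroup G) ∧ G3 y}.ncard = 12 := by
  classical
  have h' := h
  obtain ⟨e⟩ := h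
  have h5 : Fact (Nat.Prime 5) := ⟨by norm_num⟩
  have hcard : Nat.card G = 448345497600 := by
    rw [Nat.card_congr e.toEquiv]; exact SporadicRecognition.SuzOrder.card_Suz
  have hP25 : Nat.card (P : Subgroup G) = 25 := by
    have := J2Type.SylowSeven.card_sylow P 2 17933819904 (by rw [hcard]; norm_num) (by norm_num)
    rw [this]; norm_num
  have hG : Nat.card G = 200 * 2241727488 := by rw [hcard]
  have hm : 2241727488 % 5 = 3 := by norm_num
  have hg0 : Good (e.symm SuzLoc.x5) := SuzFive.good_map e.symm SuzFive.good_x5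
  obtain ⟨g, hg⟩ := J2Type.SylowFive.exists_conj_mem_sylow P (y := e.symm SuzLoc.x5) (n := 1)
    (by rw [hg0.1]; norm_num)
  have hg1 := hg0.conj g
  have hsq : IsConj (g * e.symm SuzLoc.x5 * g⁻¹) ((g * e.symm SuzLoc.x5 * g⁻¹) ^ 2) := by
    obtain ⟨c, hc⟩ := isConj_iff.1 SuzFive.conj_sq
    have h1 : e.symm c * e.symm SuzLoc.x5 * (e.symm c)⁻¹ = (e.symm SuzLoc.x5) ^ 2 := by
      rw [← map_inv, ← map_mul, ← map_mul, hc, map_pow]
    refine isConj_iff.2 ⟨g * e.symm c * g⁻¹, ?_⟩
    rw [conj_pow, ← h1]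
    group
  refine ⟨hP25, ?_⟩
  have h12 := (FiveKey.card_main hP25 hG hm hg1 hsq hg).2
  rw [Nat.card_coe_set_eq] at h12
  rw [← h12]
  congr 1
  have hG3 : G3 (g * e.symm SuzLoc.x5 * g⁻¹) := ⟨hg1.1, FiveKey.card_centralizer hP25 hg1 hg⟩
  ext y
  constructor
  · rintro ⟨hy, hy3⟩
    exact ⟨hy, G3_iff h' hG3 hsq hy3 (FiveMain.two_classes hP25 hG hm hg1 hsq hg)⟩
  · rintro ⟨hy, hc⟩
    refine ⟨hy, ?_⟩
    obtain ⟨c, hc⟩ := isConj_iff.1 hc
    rw [← hc]
    exact (G3.conj c _).2 hG3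

theorem prime_sq {p : ℕ} (hp : p.Prime) (hp5 : 5 ≤ p) (hd : p ^ 2 ∣ 448345497600) : p = 5 := by
  by_contra hne
  have h2 : Nat.Coprime (p ^ 2) (2 ^ 13) := Nat.Coprime.pow _ _ ((Nat.coprime_primes hp Nat.prime_two).2 (by omega))
  have h3 : Nat.Coprime (p ^ 2) (3 ^ 7) := Nat.Coprime.pow _ _ ((Nat.coprime_primes hp Nat.prime_three).2 (by omega))
  have h5 : Nat.Coprime (p ^ 2) (5 ^ 2) := Nat.Coprime.pow _ _ ((Nat.coprime_primes hp (by norm_num)).2 hne)
  rw [show 448345497600 = 2 ^ 13 * (3 ^ 7 * (5 ^ 2 * 1001)) by norm_num] at hd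
  have h6 := h5.dvd_of_dvd_mul_left (h3.dvd_of_dvd_mul_left (h2.dvd_of_dvd_mul_left hd))
  have h7 := Nat.le_of_dvd (by norm_num) h6
  have h8 : p < 32 := by
    by_contra hlt
    push Not at hlt
    nlinarith
  interval_cases p <;> revert h6 <;> norm_num

/-- **no commuting pairs of perfect subgroups** -/
theorem no_E {B : Type*} [Group B] [Finite B] (h : Cfsg.Spor.IsoSuz B) {E : Subgroup B} (hne : E ≠ ⊥)
    (hper : ⁅E, E⁆ = E) (τ : MulAut B) (hdis : E ⊓ E.map τ.toMonoidHom = ⊥)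
    (hc : ∀ a ∈ E, ∀ b ∈ E, a * τ b = τ b * a) : False := by
  classical
  have hnt : Nontrivial E := (Subgroup.nontrivial_iff_ne_bot E).2 hne
  have hperE : commutator E = ⊤ := by
    have h1 := Subgroup.map_subtype_commutator E
    rw [hper] at h1
    apply Subgroup.map_injective E.subtype_injective
    rw [h1, ← MonoidHom.range_eq_map, E.range_subtype]
  have hns : ¬ Group.IsSolvable E := by
    intro hsol
    have h1 : commutator E < ⊤ := Group.IsSolvable.commutator_lt_top_of_nontrivial E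
    exact h1.ne hperE
  obtain ⟨p, hp, hp5, hpE⟩ := Cfsg.Agent.H59.EP.exists_prime_ge_five hns
  have hcard : Nat.card B = 448345497600 := by
    obtain ⟨e⟩ := h
    rw [Nat.card_congr e.toEquiv]; exact SporadicRecognition.SuzOrder.card_Suz
  -- `|E|^2` divides `|B|`
  have hsq : Nat.card E * Nat.card E ∣ Nat.card B := by
    have hcm : ∀ (a : E) (b : E.map τ.toMonoidHom), Commute (E.subtype a) ((E.map τ.toMonoidHom).subtype b) := by
      rintro ⟨a, ha⟩ ⟨_, b, hb, rfl⟩
      exact hc a ha b hb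
    have hinj : Function.Injective (MonoidHom.noncommCoprod E.subtype (E.map τ.toMonoidHom).subtype hcm) := by
      rw [MonoidHom.noncommCoprod_injective]
      refine ⟨subtype_injective _, subtype_injective _, ?_⟩
      rw [Subgroup.range_subtype, Subgroup.range_subtype, disjoint_iff]
      exact hdis
    have h1 := Subgroup.card_subgroup_dvd_card (MonoidHom.noncommCoprod E.subtype (E.map τ.toMonoidHom).subtype hcm).range
    rwa [← Nat.card_congr (MonoidHom.ofInjective hinj).toEquiv, Nat.card_prod,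
      Subgroup.card_map_of_injective τ.injective] at h1
  rw [hcard] at hsq
  have hp : p = 5 := prime_sq hp hp5 (by
    rw [pow_two]
    exact (Nat.mul_dvd_mul hpE hpE).trans hsq)
  subst hp
  have h25 : ¬ 25 ∣ Nat.card E := by
    intro h25
    have := (Nat.mul_dvd_mul h25 h25).trans hsq
    norm_num at this
  obtain ⟨v, a, hv, hav⟩ := exists_inv hperE hpE h25
  have hv' : orderOf (v : B) = 5 := by rw [Subgroup.orderOf_coe, hv]
  refine no_pair (five_count h) (v := (v : B)) (w := τ v) (a := (a : B)) hv' (by rw [MulEquiv.orderOf_eq, hv'])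
    (hc v v.2 v v.2) ?_ (card_cent_equiv τ _) ?_ (hc a a.2 v v.2)
  · intro hmem
    have h1 : zpowers (v : B) ≤ E := by rw [zpowers_le]; exact v.2
    have h2 : τ (v : B) ∈ E ⊓ E.map τ.toMonoidHom := ⟨h1 hmem, ⟨v, v.2, rfl⟩⟩
    rw [hdis, mem_bot] at h2
    have h3 : (v : B) = 1 := by
      apply τ.injective
      rw [h2, map_one]
    rw [h3, orderOf_one] at hv'
    norm_num at hv'
  · have h1 := congrArg (Subtype.val) hav
    exact h1

end Cfsg.Agent.H775.EPS
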