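import Cfsg.Agent.H775.EPS.Base
import Cfsg.Agent.H775.EPS.SuzNum
import Cfsg.Agent.H775.EPS.SuzFive
import Cfsg.Agent.H775.EPS.SimpleCount
import Cfsg.Agent.H419.EP.Soc
import Cfsg.Agent.S1694

/-!
# S3499: `A` with socle `Suz` has index at most `2 ^ 82` (helper775)
-/

set_option autoImplicit false

namespace Cfsg.Agent.H775.EPS

open Subgroup Cfsg.Agent.H284 Cfsg.Agent.H173.EP Cfsg.Agent.H59.EP Cfsg.Agent.H419.EP
open Cfsg.Spor (Suz IsoSuz)

universe u

theorem fac_eq {n p a m : ℕ} (hp : p.Prime) (h : n = p ^ a * m) (hm : ¬ p ∣ m) : n.factorization p = a := by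
  have hm0 : m ≠ 0 := by
    rintro rfl
    exact hm (dvd_zero _)
  rw [h, Nat.factorization_mul (pow_ne_zero _ hp.ne_zero) hm0, Finsupp.add_apply, hp.factorization_pow,
    Finsupp.single_eq_same, Nat.factorization_eq_zero_of_not_dvd hm, add_zero]

theorem primes_suz {s : ℕ} (hs : s.Prime) (hd : s ∣ 448345497600) : s = 2 ∨ s = 3 ∨ s ∈ ({5, 7, 11, 13} : Finset ℕ) := by
  rw [show 448345497600 = 2 ^ 13 * 3 ^ 7 * 5 ^ 2 * 7 * 11 * 13 by norm_num] at hd
  simp only [hs.dvd_mul] at hd
  rcases hd with ((((h | h) | h) | h) | h) | h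
  · exact Or.inl ((Nat.prime_dvd_prime_iff_eq hs (by norm_num)).1 (hs.dvd_of_dvd_pow h))
  · exact Or.inr (Or.inl ((Nat.prime_dvd_prime_iff_eq hs (by norm_num)).1 (hs.dvd_of_dvd_pow h)))
  · have := (Nat.prime_dvd_prime_iff_eq hs (by norm_num)).1 (hs.dvd_of_dvd_pow h)
    subst this
    right; right; decide
  · have := (Nat.prime_dvd_prime_iff_eq hs (by norm_num)).1 h
    subst this
    right; right; decide
  · have := (Nat.prime_dvd_prime_iff_eq hs (by norm_num)).1 h
    subst this
    right; right; decide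
  · have := (Nat.prime_dvd_prime_iff_eq hs (by norm_num)).1 h
    subst this
    right; right; decide

/-- elementary abelian `p`-subgroups, crude bound -/
theorem ncard_SE_le {B : Type*} [Group B] [Finite B] {p v : ℕ} (hp : p.Prime) (hv : (Nat.card B).factorization p = v) :
    (SE B p).ncard ≤ gal p v * (Nat.card B / p) := by
  have h1 := ncard_elab_class_le (B := B) hp (c := Nat.card B / p)
  rw [hv] at h1
  refine le_trans (Set.ncard_le_ncard ?_ (Set.toFinite _)) h1
  rintro X ⟨hX, hne⟩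
  refine ⟨hX, hne, ?_⟩
  rw [Nat.le_div_iff_mul_le hp.pos, mul_comm]
  have h2 := (normalizer (X : Set B)).card_mul_index
  rw [← h2]
  apply Nat.mul_le_mul_right
  obtain ⟨y, hy1⟩ := Subgroup.ne_bot_iff_exists_ne_one.1 hne
  have : Fact p.Prime := ⟨hp⟩
  have hy : orderOf (y : B) = p := orderOf_eq_prime (hX.exp _ y.2) fun e => hy1 (Subtype.ext e)
  have h3 : zpowers (y : B) ≤ normalizer (X : Set B) := by
    rw [zpowers_le]
    exact le_normalizer y.2
  have h4 := Nat.le_of_dvd Nat.card_pos (Subgroup.card_dvd_of_le h3)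
  rwa [Nat.card_zpowers, hy] at h4

/-- the total number of two-point stabilisers -/
def R0 : ℕ := (2915055 + flag 2 13 (2 * 448345497600)) + (448345497600 + flag 3 7 (3 * 448345497600)) +
  (gal 5 2 * (448345497600 / 5) + gal 7 1 * (448345497600 / 7) + gal 11 1 * (448345497600 / 11) +
    gal 13 1 * (448345497600 / 13)) + (2915055 * 448345497600 / 60 + 448345497600 ^ 2 / 250000)

def R1 : ℕ := (448345497600 + flag 3 7 (3 * 448345497600)) +
  (gal 5 2 * (448345497600 / 5) + gal 7 1 * (448345497600 / 7) + gal 11 1 * (448345497600 / 11) +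
    gal 13 1 * (448345497600 / 13))

theorem num : 1 + 2915055 * R0 + R1 * (2 * (896690995200 / 6)) ≤ 2 ^ 82 := by decide +kernel

/-- **The index**, with hypotheses on simple groups -/
theorem index_le_core {Q : Type u} [Group Q] [Finite Q] (hs : IsSimpleGroup Q) {A : Subgroup Q}
    {Γ : Subgroup (MulAut Q)} (h : EPT A Γ) {L : Type*} [Group L] (hL : IsoSuz L) (hsoc : HasSoc A L)
    (hI : InvGen.{u} 448345497600 250000) (hg : TwoGen.{u})
    (hev : ∀ (X : Type u) [Group X] [Finite X], IsSimpleGroup X → ¬ Group.IsSolvable X → 2 ∣ Nat.card X) :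
    A.index ≤ 2 ^ 82 := by
  classical
  have hLfin := finite_suz_iso hL
  have hAL : Nat.card A ≤ 896690995200 :=
    hsoc.card_le.trans (Nat.le_of_dvd (by norm_num) (aut_suz hL))
  obtain ⟨N, hNA, hN, hC, ⟨e⟩⟩ := hsoc
  have hSN : IsoSuz N := by
    obtain ⟨e'⟩ := hL
    exact ⟨e.trans e'⟩
  have hcN : Nat.card N = 448345497600 := card_suz_iso hSN
  have hNs : IsSimpleGroup N := by
    obtain ⟨e'⟩ := hSN
    have h1 : IsSimpleGroup Suz := Cfsg.Agent.S1694.result.1
    exact e'.isSimpleGroup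
  have hNc : ¬ ∀ a ∈ N, ∀ b ∈ N, a * b = b * a := by
    intro hcomm
    obtain ⟨a, b, ha, -, -⟩ := reps_two' hSN
    have h1 : centralizer ({a} : Set N) = ⊤ := by
      rw [Subgroup.eq_top_iff']
      intro x
      rw [mem_centralizer_singleton_iff]
      exact Subtype.ext (hcomm x x.2 a a.2)
    rw [h1, Subgroup.card_top, hcN] at ha
    norm_num at ha
  have hab := noAb_of_soc hNA hN hNs hNc hC
  have h6 : ∀ x, x ∉ A → 6 ≤ Nat.card (A ⊓ cj x A : Subgroup Q) := fun x hx => EPT.six_le h hab hx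
  have hcard : Nat.card A ≤ 2 * Nat.card N := by
    rw [hcN]
    exact hAL
  obtain ⟨hr, hr'⟩ := counts h hNA hN hNs hC hcard h6
    (fun E τ h1 h2 h3 h4 => no_E hSN h1 h2 τ h3 h4)
    (fun K hK => hev K hK.1 hK.2) {5, 7, 11, 13} (by
      intro s hs hd
      rw [hcN] at hd
      exact primes_suz hs hd)
  -- the numbers
  have hi2 : {z : N | orderOf z = 2}.ncard ≤ 2915055 := ncard_inv_le hSN
  have hS2 : (SE N 2).ncard ≤ 2915055 + flag 2 13 (2 * 448345497600) :=
    (ncard_elab_le_flag Nat.prime_two (fact2 hSN) (sum_two hSN)).trans (Nat.add_le_add_right hi2 _)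
  have hS3 : (SE N 3).ncard ≤ 448345497600 + flag 3 7 (3 * 448345497600) := by
    refine (ncard_elab_le_flag Nat.prime_three (fact3 hSN) (sum_three hSN)).trans (Nat.add_le_add_right ?_ _)
    refine (Set.ncard_le_ncard (Set.subset_univ _) (Set.toFinite _)).trans ?_
    rw [Set.ncard_univ, hcN]
  have hP : ∑ p ∈ ({5, 7, 11, 13} : Finset ℕ), (SE N p).ncard ≤
      gal 5 2 * (448345497600 / 5) + gal 7 1 * (448345497600 / 7) + gal 11 1 * (448345497600 / 11) +
        gal 13 1 * (448345497600 / 13) := by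
    have h5 := ncard_SE_le (B := N) (p := 5) (v := 2) (by norm_num)
      (by rw [hcN]; exact fac_eq (m := 17933819904) (by norm_num) (by norm_num) (by norm_num))
    have h7 := ncard_SE_le (B := N) (p := 7) (v := 1) (by norm_num)
      (by rw [hcN]; exact fac_eq (m := 64049356800) (by norm_num) (by norm_num) (by norm_num))
    have h11 := ncard_SE_le (B := N) (p := 11) (v := 1) (by norm_num)
      (by rw [hcN]; exact fac_eq (m := 40758681600) (by norm_num) (by norm_num) (by norm_num))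
    have h13 := ncard_SE_le (B := N) (p := 13) (v := 1) (by norm_num)
      (by rw [hcN]; exact fac_eq (m := 34488115200) (by norm_num) (by norm_num) (by norm_num))
    rw [hcN] at h5 h7 h11 h13
    rw [Finset.sum_insert (by decide), Finset.sum_insert (by decide), Finset.sum_insert (by decide),
      Finset.sum_singleton]
    omega
  have hSS : (SS N).ncard ≤ 2915055 * 448345497600 / 60 + 448345497600 ^ 2 / 250000 := by
    have h1 := ncard_simple_le_inv (B := N) (m := 250000) (by norm_num) (by rw [hcN]; exact hI)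
      (fun X _ _ _ => hg X) (𝒮 := SS N) (fun X hX => hX)
    rw [hcN] at h1
    refine h1.trans (Nat.add_le_add_right (Nat.div_le_div_right (Nat.mul_le_mul_right _ hi2)) _)
  have hR0 : {M : Subgroup Q | ∃ x, x ∉ A ∧ M = A ⊓ cj x A}.ncard ≤ R0 :=
    hr.trans (Nat.add_le_add (Nat.add_le_add (Nat.add_le_add hS2 hS3) hP) hSS)
  have hR1 : {M : Subgroup Q | (∃ x, x ∉ A ∧ M = A ⊓ cj x A) ∧ ∀ t ∈ {t : Q | t ∈ N ∧ orderOf t = 2}, t ∉ M}.ncard ≤
      R1 := hr'.trans (Nat.add_le_add hS3 hP)
  have hIn : {t : Q | t ∈ N ∧ orderOf t = 2}.ncard ≤ 2915055 := by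
    have e1 : {t : Q | t ∈ N ∧ orderOf t = 2} = Subtype.val '' {z : N | orderOf z = 2} := by
      ext t
      constructor
      · rintro ⟨h1, h2⟩
        exact ⟨⟨t, h1⟩, by rw [Set.mem_ofPred_eq, Subgroup.orderOf_mk, h2], rfl⟩
      · rintro ⟨z, hz, rfl⟩
        exact ⟨z.2, by rw [Subgroup.orderOf_coe]; exact hz⟩
    rw [e1, Set.ncard_image_of_injective _ Subtype.val_injective]
    exact hi2
  have hfin := index_le_hit hs h (μ := 6) (by norm_num) h6 {t : Q | t ∈ N ∧ orderOf t = 2} (by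
    rintro t ⟨-, ht⟩ rfl
    rw [orderOf_one] at ht
    norm_num at ht)
  refine hfin.trans (le_trans ?_ num)
  refine Nat.add_le_add (Nat.add_le_add_left (Nat.mul_le_mul hIn hR0) 1) (Nat.mul_le_mul hR1 ?_)
  exact Nat.mul_le_mul_left 2 (Nat.div_le_div_right hAL)

end Cfsg.Agent.H775.EPS
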